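import Groth.Agent.Lib.HTLoc27.Loc

/-!
# Pointwise criteria for maps on cohomology with supports in a specialization stable set
-/

set_option autoImplicit false
universe u

open CategoryTheory CategoryTheory.Limits Opposite

noncomputable section

namespace Groth.Agent.HTLoc27

open HTFin27 InjHullLib Dlz27

variable {A : Type u} [CommRing A] [IsNoetherianRing A]

/-- `H^i_T` -/
abbrev HT (T : Set (PrimeSpectrum A)) (i : ℕ) : ModuleCat.{u} A ⥤ ModuleCat.{u} A :=
  localCohomology.ofDiagram.{u, u} (Dual2.idealsInDiagram T) i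

/-- The map on local cohomology at a prime. -/
abbrev locMapH (q : PrimeSpectrum A) (i : ℕ) {M N : ModuleCat.{u} A} (f : M ⟶ N) :=
  (localCohomology (IsLocalRing.maximalIdeal (Localization.AtPrime q.asIdeal)) i).map
    (ModuleCat.ofHom (LocalizedModule.map q.asIdeal.primeCompl f.hom))

theorem descend {T : Set (PrimeSpectrum A)} (hT : StableUnderSpecialization T) {i : ℕ} {M N : ModuleCat.{u} A}
    {f : M ⟶ N} {P : InjectiveResolution M} {Q : InjectiveResolution N} (φ : InjectiveResolution.Hom P Q f)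
    (x : P.cocomplex.X i) (hx : x ∈ TTors T (P.cocomplex.X i)) (hd : P.cocomplex.d i (i + 1) x = 0)
    (h : ∀ (q : PrimeSpectrum A) (hq : MinT T q), locMapH q i f
      (locCl q.asIdeal P x (mkL_mem_of_minT hT hq hx) (by rw [hd, map_zero])) = 0) :
    ∃ (z : Q.cocomplex.X i) (hz : z ∈ TTors (Tup T) (Q.cocomplex.X i)) (hzd : Q.cocomplex.d i (i + 1) z = 0),
      clsT T Q z (by obtain ⟨J, hJ, hk⟩ := hz; exact ⟨J, fun p hp => Tup_subset (hJ hp), hk⟩) hzd =
        (HT T i).map f (clsT T P x hx hd) := by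
  have hx' : φ.hom.f i x ∈ TTors T (Q.cocomplex.X i) := TTors.map T hx (φ.hom.f i).hom
  have hd' : Q.cocomplex.d i (i + 1) (φ.hom.f i x) = 0 := by rw [d_comm, hd, map_zero]
  obtain ⟨c, hc, hz⟩ := clear hT (Q.cocomplex.d (i - 1) i) (φ.hom.f i x) hx' fun q hq =>
    locCl_lift q.asIdeal Q (φ.hom.f i x) (mkL_mem_of_minT hT hq hx') (by rw [hd', map_zero])
      ((map_locCl q.asIdeal P φ x (mkL_mem_of_minT hT hq hx) (by rw [hd, map_zero]) _ _).symm.trans (h q hq))
  have hzd : Q.cocomplex.d i (i + 1) (φ.hom.f i x - Q.cocomplex.d (i - 1) i c) = 0 := by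
    rw [map_sub, hd', zero_sub, neg_eq_zero]
    exact LinearMap.congr_fun (congrArg ModuleCat.Hom.hom (Q.cocomplex.d_comp_d (i - 1) i (i + 1))) c
  refine ⟨_, hz, hzd, ?_⟩
  rw [map_clsT P φ x hx hd hx' hd']
  refine (clsT_sub_bd Q _ _ hx' _ hd' hzd ⟨c, hc, ?_⟩).symm
  rw [sub_sub_cancel]

variable (M : ℕ → Type u) [∀ n, AddCommGroup (M n)] [∀ n, Module A (M n)]
  (φ : ∀ k m : ℕ, m ≤ k → (M k →ₗ[A] M m))
  (hφ : ∀ (k l m : ℕ) (h₁ : m ≤ l) (h₂ : l ≤ k), φ k m (h₁.trans h₂) = φ l m h₁ ∘ₗ φ k l h₂)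

/-- A transition map. -/
abbrev tr {k m : ℕ} (h : m ≤ k) : ModuleCat.of A (M k) ⟶ ModuleCat.of A (M m) := ModuleCat.ofHom (φ k m h)

/-- An injective resolution of each member. -/
abbrev res (n : ℕ) : InjectiveResolution (ModuleCat.of A (M n)) := injectiveResolution _

include hφ in
omit [IsNoetherianRing A] in
theorem tr_comp {k l m : ℕ} (h₁ : m ≤ l) (h₂ : l ≤ k) : tr M φ h₂ ≫ tr M φ h₁ = tr M φ (h₁.trans h₂) :=
  ModuleCat.hom_ext (hφ k l m h₁ h₂).symm

include hφ in
omit [IsNoetherianRing A] in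
theorem map_tr (T : Set (PrimeSpectrum A)) (i : ℕ) {k l m : ℕ} (h₁ : m ≤ l) (h₂ : l ≤ k)
    (v : (HT T i).obj (ModuleCat.of A (M k))) :
    (HT T i).map (tr M φ (h₁.trans h₂)) v = (HT T i).map (tr M φ h₁) ((HT T i).map (tr M φ h₂) v) := by
  rw [← tr_comp M φ hφ h₁ h₂, Functor.map_comp]
  rfl

include hφ in
omit [IsNoetherianRing A] in
theorem locMapH_tr (q : PrimeSpectrum A) (i : ℕ) {k l m : ℕ} (h₁ : m ≤ l) (h₂ : l ≤ k) :
    locMapH q i (tr M φ (h₁.trans h₂)) = locMapH q i (tr M φ h₂) ≫ locMapH q i (tr M φ h₁) := by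
  rw [locMapH, locMapH, locMapH, ← Functor.map_comp]
  congr 1
  rw [← tr_comp M φ hφ h₁ h₂]
  refine ModuleCat.hom_ext (LinearMap.ext fun y => ?_)
  induction y using LocalizedModule.induction_on with
  | h x s => simp

variable (m' : ℕ → ℕ) (hm' : ∀ m, m ≤ m' m)

include hm' in
theorem le_iterate (e m : ℕ) : m ≤ m'^[e] m := by
  induction e with
  | zero => simp
  | succ e ih =>
    rw [Function.iterate_succ_apply']
    exact ih.trans (hm' _)

include hm' in
theorem iterate_mono {a b : ℕ} (h : a ≤ b) (m : ℕ) : m'^[a] m ≤ m'^[b] m := by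
  obtain ⟨c, rfl⟩ := Nat.exists_eq_add_of_le h
  rw [Nat.add_comm, Function.iterate_add_apply]
  exact le_iterate m' hm' c _

include hφ hm' in
theorem map_eq_zero_of_pointwise (i : ℕ) : ∀ (e : ℕ) (T : Set (PrimeSpectrum A)), StableUnderSpecialization T →
    (∀ l : LTSeries ↥T, l.length ≤ e) →
    (∀ q ∈ T, ∀ (m k : ℕ) (h : m ≤ k), m' m ≤ k → locMapH q i (tr M φ h) = 0) →
    ∀ (m k : ℕ) (h : m ≤ k), m'^[e + 1] m ≤ k → ∀ v, (HT T i).map (tr M φ h) v = 0 := by
  intro e
  induction e with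
  | zero =>
    intro T hT hlen hloc m k h hk v
    obtain ⟨x, hx, hd, rfl⟩ := exists_clsT (T := T) (i := i) (res M k) v
    obtain ⟨z, hz, hzd, he⟩ := descend hT (homOf (res M k) (res M m) (tr M φ h)) x hx hd fun q hq => by
      rw [hloc q hq.1 m k h hk]; rfl
    rw [← he, clsT_eq_zero_iff]
    exact ⟨0, zero_mem _, (map_zero _).trans (TTors_eq_zero_of_empty (Tup_eq_empty hlen) hz).symm⟩
  | succ e ih =>
    intro T hT hlen hloc m k h hk v
    set l := m'^[e + 1] m with hl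
    have hml : m ≤ l := le_iterate m' hm' _ m
    have hlk : m' l ≤ k := by rw [hl, ← Function.iterate_succ_apply' m']; exact hk
    have hlk' : l ≤ k := (hm' l).trans hlk
    obtain ⟨x, hx, hd, rfl⟩ := exists_clsT (T := T) (i := i) (res M k) v
    rw [map_tr M φ hφ T i hml hlk']
    obtain ⟨z, hz, hzd, he⟩ := descend hT (homOf (res M k) (res M l) (tr M φ hlk')) x hx hd fun q hq => by
      rw [hloc q hq.1 l k hlk' hlk]; rfl
    rw [← he]
    let ψ := homOf (res M l) (res M m) (tr M φ hml)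
    have hzT : z ∈ TTors T _ := by obtain ⟨J, hJ, hk⟩ := hz; exact ⟨J, fun p hp => Tup_subset (hJ hp), hk⟩
    have hd' : (res M m).cocomplex.d i (i + 1) (ψ.hom.f i z) = 0 := by rw [d_comm, hzd, map_zero]
    have h0 := ih (Tup T) (stable_Tup hT) (length_Tup hlen) (fun q hq => hloc q (Tup_subset hq)) m l hml le_rfl
      (clsT (Tup T) (res M l) z hz hzd)
    rw [map_clsT (res M l) ψ z hz hzd (TTors.map _ hz _) hd', clsT_eq_zero_iff] at h0
    rw [map_clsT (res M l) ψ z hzT hzd (TTors.map _ hzT _) hd', clsT_eq_zero_iff]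
    exact Bd.mono (res M m) Tup_subset h0

include hφ hm' in
theorem injective_image_of_pointwise (i : ℕ) : ∀ (e : ℕ) (T : Set (PrimeSpectrum A)), StableUnderSpecialization T →
    (∀ l : LTSeries ↥T, l.length ≤ e) →
    (0 < i → ∀ q ∈ T, ∀ (m k : ℕ) (h : m ≤ k), m' m ≤ k → locMapH q (i - 1) (tr M φ h) = 0) →
    (∀ q ∈ T, ∀ (m k : ℕ) (h : m ≤ k), m' m ≤ k →
      LinearMap.range (locMapH q i (tr M φ h)).hom = LinearMap.range (locMapH q i (tr M φ (hm' m))).hom) →
    (∀ q ∈ T, ∀ (m : ℕ), ∀ w, w ∈ LinearMap.range (locMapH q i (tr M φ (hm' m))).hom →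
      locMapH q i (tr M φ (Nat.zero_le m)) w = 0 → w = 0) →
    ∀ (m : ℕ) (hm : m'^[e] 0 ≤ m) (k : ℕ) (h : m ≤ k), m'^[e + 1] m ≤ k →
      ∀ v, (HT T i).map (tr M φ (hm.trans h)) v = 0 → (HT T i).map (tr M φ h) v = 0 := by
  intro e
  induction e with
  | zero =>
    intro T hT hlen h1 h2 h3 m hm k h hk v hv
    obtain ⟨x, hx, hd, rfl⟩ := exists_clsT (T := T) (i := i) (res M k) v
    have hloc : ∀ (q : PrimeSpectrum A) (hq : MinT T q), locMapH q i (tr M φ h)
        (locCl q.asIdeal (res M k) x (mkL_mem_of_minT hT hq hx) (by rw [hd, map_zero])) = 0 := by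
      intro q hq
      refine h3 q hq.1 m _ (h2 q hq.1 m k h hk ▸ ⟨_, rfl⟩) ?_
      rw [← ConcreteCategory.comp_apply, ← locMapH_tr M φ hφ q i (Nat.zero_le m) h]
      let ψ := homOf (res M k) (res M 0) (tr M φ (hm.trans h))
      have hd' : (res M 0).cocomplex.d i (i + 1) (ψ.hom.f i x) = 0 := by rw [d_comm, hd, map_zero]
      replace hv := (clsT_eq_zero_iff _ _ _ _).1 ((map_clsT (res M k) ψ x hx hd (TTors.map _ hx _) hd').symm.trans hv)
      obtain ⟨y, hy, hdy⟩ := hv
      refine (map_locCl q.asIdeal (res M k) ψ x _ (by rw [hd, map_zero]) (mkL_mem_of_minT hT hq (TTors.map _ hx _))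
        (by rw [hd', map_zero])).trans ?_
      exact (locCl_eq_zero_iff q.asIdeal (res M 0) _ _ _).2 ⟨y, mkL_mem_of_minT hT hq hy, congrArg _ hdy⟩
    obtain ⟨z, hz, hzd, he⟩ := descend hT (homOf (res M k) (res M m) (tr M φ h)) x hx hd hloc
    rw [← he, clsT_eq_zero_iff]
    exact ⟨0, zero_mem _, (map_zero _).trans (TTors_eq_zero_of_empty (Tup_eq_empty hlen) hz).symm⟩
  | succ e ih =>
    intro T hT hlen h1 h2 h3 m hm k h hk v hv
    set t := m'^[e] 0 with ht
    set m₀ := m'^[e + 1] 0 with hm₀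
    set l := m'^[e + 1] m with hl
    have htm₀ : m' t ≤ m₀ := by rw [ht, hm₀, Function.iterate_succ_apply']
    have hml : m ≤ l := le_iterate m' hm' _ m
    have hlk : m' l ≤ k := by rw [hl, ← Function.iterate_succ_apply' m']; exact hk
    have hlk' : l ≤ k := (hm' l).trans hlk
    obtain ⟨x, hx, hd, rfl⟩ := exists_clsT (T := T) (i := i) (res M k) v
    have hloc : ∀ (q : PrimeSpectrum A) (hq : MinT T q), locMapH q i (tr M φ hlk')
        (locCl q.asIdeal (res M k) x (mkL_mem_of_minT hT hq hx) (by rw [hd, map_zero])) = 0 := by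
      intro q hq
      refine h3 q hq.1 l _ (h2 q hq.1 l k hlk' hlk ▸ ⟨_, rfl⟩) ?_
      rw [← ConcreteCategory.comp_apply, ← locMapH_tr M φ hφ q i (Nat.zero_le l) hlk']
      rw [locMapH_tr M φ hφ q i (Nat.zero_le m₀) (hm.trans h), ConcreteCategory.comp_apply]
      let ψ := homOf (res M k) (res M m₀) (tr M φ (hm.trans h))
      have hd' : (res M m₀).cocomplex.d i (i + 1) (ψ.hom.f i x) = 0 := by rw [d_comm, hd, map_zero]
      replace hv := (clsT_eq_zero_iff _ _ _ _).1 ((map_clsT (res M k) ψ x hx hd (TTors.map _ hx _) hd').symm.trans hv)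
      obtain ⟨y, hy, hdy⟩ := hv
      refine Eq.trans (congrArg _ ?_) (map_zero (locMapH q i (tr M φ (Nat.zero_le m₀))).hom)
      refine (map_locCl q.asIdeal (res M k) ψ x _ (by rw [hd, map_zero]) (mkL_mem_of_minT hT hq (TTors.map _ hx _))
        (by rw [hd', map_zero])).trans ?_
      exact (locCl_eq_zero_iff q.asIdeal (res M m₀) _ _ _).2 ⟨y, mkL_mem_of_minT hT hq hy, congrArg _ hdy⟩
    obtain ⟨z, hz, hzd, he⟩ := descend hT (homOf (res M k) (res M l) (tr M φ hlk')) x hx hd hloc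
    rw [map_tr M φ hφ T i hml hlk', ← he]
    rw [map_tr M φ hφ T i (hm.trans hml) hlk', ← he] at hv
    have hzT : z ∈ TTors T _ := by obtain ⟨J, hJ, hk⟩ := hz; exact ⟨J, fun p hp => Tup_subset (hJ hp), hk⟩
    -- the image in degree `m₀`
    let χ := homOf (res M l) (res M m₀) (tr M φ (hm.trans hml))
    have hz₀ : χ.hom.f i z ∈ TTors (Tup T) _ := TTors.map _ hz _
    have hz₀d : (res M m₀).cocomplex.d i (i + 1) (χ.hom.f i z) = 0 := by rw [d_comm, hzd, map_zero]
    replace hv := (clsT_eq_zero_iff _ _ _ _).1 ((map_clsT (res M l) χ z hzT hzd (TTors.map _ hzT _) hz₀d).symm.trans hv)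
    obtain ⟨b, hb, hdb⟩ := hv
    have htm₀' : t ≤ m₀ := (hm' t).trans htm₀
    let ρ := homOf (res M m₀) (res M t) (tr M φ htm₀')
    -- push the torsion element to degree `t` and clear it
    have key : Bd (Tup T) (res M t) (ρ.hom.f i (χ.hom.f i z)) := by
      rcases Nat.eq_zero_or_pos i with rfl | hi
      · refine ⟨0, zero_mem _, ?_⟩
        rw [map_zero, ← hdb, (res M m₀).cocomplex.shape _ _ (by simp)]
        exact (map_zero _).symm
      obtain ⟨p, rfl⟩ : ∃ p, i = p + 1 := ⟨i - 1, by omega⟩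
      change (res M m₀).cocomplex.X p at b
      change (res M m₀).cocomplex.d p (p + 1) b = χ.hom.f (p + 1) z at hdb
      have hbd : ∀ q, MinT T q → mkL q.asIdeal.primeCompl _ ((res M m₀).cocomplex.d p (p + 1) b) = 0 := by
        intro q hq
        rw [hdb]
        obtain ⟨J, hJ, hk⟩ := hz₀
        obtain ⟨s, hsJ, hsq⟩ := SetLike.not_le_iff_exists.1 fun (hle : J ≤ q.asIdeal) => (hJ hle).2 hq
        exact (mkL_eq_zero_iff _ _).2 ⟨⟨s, hsq⟩, hk s hsJ⟩
      obtain ⟨c, hc, hb'⟩ := clear (N' := (res M t).cocomplex.X (p - 1)) hT ((res M t).cocomplex.d (p - 1) p)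
        (ρ.hom.f p b) (TTors.map _ hb _) fun q hq => by
        have hd1 : mkL q.asIdeal.primeCompl _ ((res M t).cocomplex.d p (p + 1) (ρ.hom.f p b)) = 0 := by
          rw [d_comm]
          exact (map_mkL _ _ _).symm.trans ((congrArg _ (hbd q hq)).trans (map_zero _))
        refine locCl_lift q.asIdeal (res M t) (ρ.hom.f p b) (mkL_mem_of_minT hT hq (TTors.map _ hb _)) hd1 ?_
        refine (map_locCl q.asIdeal (res M m₀) ρ b (mkL_mem_of_minT hT hq hb) (hbd q hq) _ _).symm.trans ?_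
        have h1' := h1 (Nat.succ_pos p) q hq.1 t m₀ htm₀' htm₀
        change locMapH q p (tr M φ htm₀') = 0 at h1'
        change (locMapH q p (tr M φ htm₀')).hom _ = 0
        rw [h1']
        rfl
      refine ⟨ρ.hom.f p b - (res M t).cocomplex.d (p - 1) p c, hb', ?_⟩
      change (res M t).cocomplex.d p (p + 1) (ρ.hom.f p b - (res M t).cocomplex.d (p - 1) p c) = _
      rw [map_sub, d_comm, hdb]
      exact (congrArg₂ (· - ·) rfl (LinearMap.congr_fun (congrArg ModuleCat.Hom.hom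
        ((res M t).cocomplex.d_comp_d (p - 1) p (p + 1))) c)).trans (sub_zero _)
    have hρd : (res M t).cocomplex.d i (i + 1) (ρ.hom.f i (χ.hom.f i z)) = 0 := by rw [d_comm, hz₀d, map_zero]
    have h0 : (HT (Tup T) i).map (tr M φ (((le_iterate m' hm' 1 t).trans htm₀).trans (hm.trans hml)))
        (clsT (Tup T) (res M l) z hz hzd) = 0 := by
      rw [map_tr M φ hφ (Tup T) i htm₀' (hm.trans hml), map_clsT (res M l) χ z hz hzd hz₀ hz₀d,
        map_clsT (res M m₀) ρ _ hz₀ hz₀d (TTors.map _ hz₀ _) hρd, clsT_eq_zero_iff]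
      exact key
    let ψ := homOf (res M l) (res M m) (tr M φ hml)
    have hψd : (res M m).cocomplex.d i (i + 1) (ψ.hom.f i z) = 0 := by rw [d_comm, hzd, map_zero]
    have h4 := ih (Tup T) (stable_Tup hT) (length_Tup hlen) (fun hi q hq => h1 hi q (Tup_subset hq))
      (fun q hq => h2 q (Tup_subset hq)) (fun q hq => h3 q (Tup_subset hq)) m (htm₀'.trans hm) l hml le_rfl _ h0
    rw [map_clsT (res M l) ψ z hz hzd (TTors.map _ hz _) hψd, clsT_eq_zero_iff] at h4
    rw [map_clsT (res M l) ψ z hzT hzd (TTors.map _ hzT _) hψd, clsT_eq_zero_iff]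
    exact Bd.mono (res M m) Tup_subset h4

end Groth.Agent.HTLoc27
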