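import Groth.Agent.Lib.HTFin27.Main
import Groth.Agent.Lib.LocCoh.DerivedGamma

/-!
# Classes of torsion cycles of an injective resolution

Cohomology with supports in a set `T` of primes, and local cohomology in an ideal, through torsion cycles.
-/

set_option autoImplicit false
universe u

open CategoryTheory CategoryTheory.Limits Opposite

noncomputable section

namespace Groth.Agent.HTLoc27

open HTFin27

variable {A : Type u} [CommRing A] (T : Set (PrimeSpectrum A)) (i : ℕ)

/-- The map `Ext^i(A/J, M) → H^i_T(M)`. -/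
def ιT (M : ModuleCat.{u} A) (j : Dual2.IdealsIn T) :
    Abelian.Ext (qT T j) M i →ₗ[A] (localCohomology.ofDiagram.{u, u} (Dual2.idealsInDiagram T) i).obj M :=
  ((((LocCohLib.extNatIso A i).inv.app (op (qT T j))).app M) ≫
    (colimit.ι (localCohomology.diagram (Dual2.idealsInDiagram T) i) (op j)).app M).hom

theorem ιT_le (M : ModuleCat.{u} A) {j j' : Dual2.IdealsIn T} (f : j' ⟶ j) (x : Abelian.Ext (qT T j) M i) :
    ιT T i M j' ((Abelian.Ext.mk₀ ((localCohomology.ringModIdeals (Dual2.idealsInDiagram T)).map f)).comp x (zero_add i)) =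
      ιT T i M j x := by
  have h1 := NatTrans.congr_app ((LocCohLib.extNatIso A i).inv.naturality
    ((localCohomology.ringModIdeals (Dual2.idealsInDiagram T)).map f).op) M
  have h2 := NatTrans.congr_app
    (colimit.w (localCohomology.diagram (Dual2.idealsInDiagram T) i) f.op) M
  exact LinearMap.congr_fun (congrArg ModuleCat.Hom.hom ((Category.assoc _ _ _).symm.trans
    ((congrArg (· ≫ _) h1).trans ((Category.assoc _ _ _).trans (congrArg (_ ≫ ·) h2))))) x

theorem map_ιT {M N : ModuleCat.{u} A} (f : M ⟶ N) (j : Dual2.IdealsIn T) (x : Abelian.Ext (qT T j) M i) :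
    ((localCohomology.ofDiagram.{u, u} (Dual2.idealsInDiagram T) i).map f).hom (ιT T i M j x) =
      ιT T i N j (x.comp (Abelian.Ext.mk₀ f) (add_zero i)) := by
  have h1 := ((LocCohLib.extNatIso A i).inv.app (op (qT T j))).naturality f
  have h2 := (colimit.ι (localCohomology.diagram (Dual2.idealsInDiagram T) i) (op j)).naturality f
  exact (LinearMap.congr_fun (congrArg ModuleCat.Hom.hom ((Category.assoc _ _ _).symm.trans
    ((congrArg (· ≫ _) h1).trans ((Category.assoc _ _ _).trans ((congrArg (_ ≫ ·) h2).trans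
      (Category.assoc _ _ _).symm))))) x).symm

theorem ιT_apply (M : ModuleCat.{u} A) (j : Dual2.IdealsIn T) (x : Abelian.Ext (qT T j) M i) :
    ιT T i M j x = (htIso T i M).inv.hom ((colimit.ι (htF T i M) (op j)).hom
      ((((LocCohLib.extNatIso A i).inv.app (op (qT T j))).app M).hom x)) :=
  (LinearMap.congr_fun (congrArg ModuleCat.Hom.hom
    (colimitObjIsoColimitCompEvaluation_ι_inv (localCohomology.diagram (Dual2.idealsInDiagram T) i) (op j) M)) _).symm

theorem exists_ιT (M : ModuleCat.{u} A) (v : (localCohomology.ofDiagram.{u, u} (Dual2.idealsInDiagram T) i).obj M) :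
    ∃ j x, ιT T i M j x = v := by
  obtain ⟨⟨j⟩, z, hz⟩ := Concrete.colimit_exists_rep (htF T i M) ((htIso T i M).hom v)
  refine ⟨j, (((LocCohLib.extNatIso A i).hom.app (op (qT T j))).app M).hom z, ?_⟩
  rw [ιT_apply]
  refine Eq.trans (congrArg (fun w => (htIso T i M).inv.hom ((colimit.ι (htF T i M) (op j)).hom w))
    ((((LocCohLib.extNatIso A i).app (op (qT T j))).app M).hom_inv_id_apply z)) ?_
  exact (congrArg (htIso T i M).inv.hom hz).trans ((htIso T i M).hom_inv_id_apply v)

theorem ιT_eq_zero (M : ModuleCat.{u} A) (j : Dual2.IdealsIn T) (x : Abelian.Ext (qT T j) M i)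
    (h : ιT T i M j x = 0) :
    ∃ (j' : Dual2.IdealsIn T) (f : j' ⟶ j),
      (Abelian.Ext.mk₀ ((localCohomology.ringModIdeals (Dual2.idealsInDiagram T)).map f)).comp x (zero_add i) = 0 := by
  have h' : (colimit.ι (htF T i M) (op j)).hom ((((LocCohLib.extNatIso A i).inv.app (op (qT T j))).app M).hom x) = 0 := by
    refine (ModuleCat.mono_iff_injective (htIso T i M).inv).1 inferInstance ?_
    rw [map_zero]
    rw [ιT_apply] at h
    exact h
  obtain ⟨⟨j'⟩, f, hf⟩ := Concrete.colimit_rep_eq_zero A (htF T i M) (op j) _ h'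
  refine ⟨j', f.unop, ?_⟩
  have h4 := LinearMap.congr_fun (congrArg ModuleCat.Hom.hom (NatTrans.congr_app
    ((LocCohLib.extNatIso A i).hom.naturality ((localCohomology.ringModIdeals (Dual2.idealsInDiagram T)).map f.unop).op) M))
    ((((LocCohLib.extNatIso A i).inv.app (op (qT T j))).app M).hom x)
  have h5 := (((LocCohLib.extNatIso A i).app (op (qT T j))).app M).inv_hom_id_apply x
  refine (congrArg (fun w : Abelian.Ext (qT T j) M i =>
    (Abelian.Ext.mk₀ ((localCohomology.ringModIdeals (Dual2.idealsInDiagram T)).map f.unop)).comp w (zero_add i)) h5).symm.trans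
      (h4.symm.trans ?_)
  exact (congrArg (fun w => (((LocCohLib.extNatIso A i).hom.app (op (qT T j'))).app M).hom w) hf).trans (map_zero _)

variable {T i} {M : ModuleCat.{u} A} (P : InjectiveResolution M)

theorem evT_comp_d (j : Dual2.IdealsIn T) (x : P.cocomplex.X i) (hx : ∀ a ∈ j.obj, a • x = 0)
    (hd : P.cocomplex.d i (i + 1) x = 0) : evT T j x hx ≫ P.cocomplex.d i (i + 1) = 0 :=
  evT_ext T ((congrArg (P.cocomplex.d i (i + 1)) (evT_one T j x hx)).trans hd)

/-- The class of a cycle killed by an ideal of the family. -/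
def cls (j : Dual2.IdealsIn T) (x : P.cocomplex.X i) (hx : ∀ a ∈ j.obj, a • x = 0)
    (hd : P.cocomplex.d i (i + 1) x = 0) : (localCohomology.ofDiagram.{u, u} (Dual2.idealsInDiagram T) i).obj M :=
  ιT T i M j (P.extMk (evT T j x hx) (i + 1) rfl (evT_comp_d P j x hx hd))

theorem cls_eq {j j' : Dual2.IdealsIn T} (x : P.cocomplex.X i) (hx : ∀ a ∈ j.obj, a • x = 0)
    (hx' : ∀ a ∈ j'.obj, a • x = 0) (hd : P.cocomplex.d i (i + 1) x = 0) :
    cls P j x hx hd = cls P j' x hx' hd := by
  have key : ∀ (k l : Dual2.IdealsIn T) (h : k.obj ≤ l.obj) (hk : ∀ a ∈ k.obj, a • x = 0)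
      (hl : ∀ a ∈ l.obj, a • x = 0), cls P k x hk hd = cls P l x hl hd := fun k l h hk hl => by
    unfold cls
    rw [← ιT_le T i M (leI T h) (P.extMk (evT T l x hl) (i + 1) rfl (evT_comp_d P l x hl hd)), P.mk₀_comp_extMk]
    refine congrArg _ (LocCohLib.extMk_congr i P ?_ _ _)
    exact evT_ext T ((evT_one T k x hk).trans (evT_one T l x hl).symm)
  let k := mkI T (j.obj ⊓ j'.obj) (Ok.inf j.property j'.property)
  rw [← key k j inf_le_left (fun a ha => hx a ha.1) hx, ← key k j' inf_le_right (fun a ha => hx a ha.1) hx']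

variable (T) in
/-- The class of a torsion cycle. -/
def clsT (x : P.cocomplex.X i) (hx : x ∈ TTors T (P.cocomplex.X i)) (hd : P.cocomplex.d i (i + 1) x = 0) :
    (localCohomology.ofDiagram.{u, u} (Dual2.idealsInDiagram T) i).obj M :=
  cls P (mkI T hx.choose hx.choose_spec.1) x hx.choose_spec.2 hd

theorem exists_clsT (v : (localCohomology.ofDiagram.{u, u} (Dual2.idealsInDiagram T) i).obj M) :
    ∃ x hx hd, clsT T P (i := i) x hx hd = v := by
  obtain ⟨j, α, rfl⟩ := exists_ιT T i M v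
  obtain ⟨f, hf, rfl⟩ := P.extMk_surjective α (i + 1) rfl
  have hk : ∀ a ∈ j.obj, a • f (oneT T j) = 0 := fun a ha => by
    rw [← map_smul]
    exact (congrArg f (smul_oneT T j ha)).trans (map_zero f.hom)
  have hd : P.cocomplex.d i (i + 1) (f (oneT T j)) = 0 :=
    congrArg (fun t : qT T j ⟶ P.cocomplex.X (i + 1) => t (oneT T j)) hf
  refine ⟨f (oneT T j), ⟨j.obj, j.property, hk⟩, hd, ?_⟩
  refine (cls_eq P (j' := j) (f (oneT T j)) _ hk hd).trans ?_
  unfold cls
  refine congrArg _ (LocCohLib.extMk_congr i P ?_ _ _)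
  exact evT_ext T (evT_one T j _ hk)

theorem map_clsT {N : ModuleCat.{u} A} {f : M ⟶ N} {Q : InjectiveResolution N} (φ : InjectiveResolution.Hom P Q f)
    (x : P.cocomplex.X i) (hx : x ∈ TTors T (P.cocomplex.X i)) (hd : P.cocomplex.d i (i + 1) x = 0)
    (hx' : φ.hom.f i x ∈ TTors T (Q.cocomplex.X i)) (hd' : Q.cocomplex.d i (i + 1) (φ.hom.f i x) = 0) :
    (localCohomology.ofDiagram.{u, u} (Dual2.idealsInDiagram T) i).map f (clsT T P x hx hd) =
      clsT T Q (φ.hom.f i x) hx' hd' := by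
  let j := mkI T hx.choose hx.choose_spec.1
  have hk : ∀ a ∈ j.obj, a • φ.hom.f i x = 0 := fun a ha => by
    rw [← map_smul, hx.choose_spec.2 a ha, map_zero]
  refine Eq.trans ?_ (cls_eq Q (j := j) (φ.hom.f i x) hk _ hd')
  unfold clsT cls
  rw [map_ιT, InjectiveResolution.extMk_comp_mk₀ _ _ _ _ φ]
  refine congrArg _ (LocCohLib.extMk_congr i Q ?_ _ _)
  exact evT_ext T ((congrArg (φ.hom.f i) (evT_one T j x _)).trans (evT_one T j _ hk).symm)

theorem extMk_evT_eq_zero_iff (j : Dual2.IdealsIn T) (x : P.cocomplex.X i) (hx : ∀ a ∈ j.obj, a • x = 0)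
    (hd : P.cocomplex.d i (i + 1) x = 0) :
    P.extMk (evT T j x hx) (i + 1) rfl (evT_comp_d P j x hx hd) = 0 ↔
      ∃ y : P.cocomplex.X (i - 1), (∀ a ∈ j.obj, a • y = 0) ∧ P.cocomplex.d (i - 1) i y = x := by
  cases i with
  | zero =>
    rw [ExtDerived.extMk_zero_iff]
    constructor
    · intro h
      refine ⟨0, fun a _ => smul_zero a, (map_zero _).trans ?_⟩
      rw [← evT_one T j x hx, h]
      rfl
    · rintro ⟨y, -, hy⟩
      refine evT_ext T ?_
      rw [evT_one T j x hx, ← hy, P.cocomplex.shape _ _ (by simp)]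
      rfl
  | succ p =>
    rw [P.extMk_eq_zero_iff _ _ _ _ p rfl]
    constructor
    · rintro ⟨g, hg⟩
      refine ⟨g (oneT T j), fun a ha => ?_, ?_⟩
      · rw [← map_smul]
        exact (congrArg g (smul_oneT T j ha)).trans (map_zero g.hom)
      · exact (congrArg (fun s : qT T j ⟶ P.cocomplex.X (p + 1) => s (oneT T j)) hg).trans (evT_one T j x hx)
    · rintro ⟨y, hy, hdy⟩
      exact ⟨evT T j y hy, evT_ext T (((congrArg (P.cocomplex.d p (p + 1)) (evT_one T j y hy)).trans hdy).trans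
        (evT_one T j x hx).symm)⟩

variable (T) in
/-- Boundaries of torsion elements. -/
def Bd (x : P.cocomplex.X i) : Prop :=
  ∃ y ∈ TTors T (P.cocomplex.X (i - 1)), P.cocomplex.d (i - 1) i y = x

theorem Bd.mono {T' : Set (PrimeSpectrum A)} (h : T' ⊆ T) {x : P.cocomplex.X i} (hx : Bd T' P x) : Bd T P x := by
  obtain ⟨y, ⟨J, hJ, hy⟩, hd⟩ := hx
  exact ⟨y, ⟨J, fun p hp => h (hJ hp), hy⟩, hd⟩

theorem clsT_eq_zero_iff (x : P.cocomplex.X i) (hx : x ∈ TTors T (P.cocomplex.X i))
    (hd : P.cocomplex.d i (i + 1) x = 0) : clsT T P x hx hd = 0 ↔ Bd T P x := by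
  constructor
  · intro h
    obtain ⟨j', f, hf⟩ := ιT_eq_zero T i M _ _ h
    rw [P.mk₀_comp_extMk] at hf
    have hk : ∀ a ∈ j'.obj, a • x = 0 := fun a ha => hx.choose_spec.2 a (f.hom.le ha)
    have he : evT T j' x hk = (localCohomology.ringModIdeals (Dual2.idealsInDiagram T)).map f ≫
        evT T (mkI T hx.choose hx.choose_spec.1) x hx.choose_spec.2 :=
      evT_ext T ((evT_one T j' x hk).trans (evT_one T (mkI T hx.choose hx.choose_spec.1) x hx.choose_spec.2).symm)
    have h0 : P.extMk (evT T j' x hk) (i + 1) rfl (evT_comp_d P j' x hk hd) = 0 :=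
      (LocCohLib.extMk_congr i P he (evT_comp_d P j' x hk hd) (by rw [Category.assoc, evT_comp_d P _ x _ hd, comp_zero])).trans hf
    obtain ⟨y, hy, hdy⟩ := (extMk_evT_eq_zero_iff P j' x hk hd).1 h0
    exact ⟨y, ⟨j'.obj, j'.property, hy⟩, hdy⟩
  · rintro ⟨y, ⟨J, hJ, hy⟩, hdy⟩
    have hk : ∀ a ∈ (mkI T J hJ).obj, a • x = 0 := fun a ha => by rw [← hdy, ← map_smul, hy a ha, map_zero]
    refine (cls_eq P (j' := mkI T J hJ) x _ hk hd).trans ?_
    unfold cls
    rw [(extMk_evT_eq_zero_iff P _ x hk hd).2 ⟨y, hy, hdy⟩, map_zero]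

theorem clsT_sub_bd (x z : P.cocomplex.X i) (hx : x ∈ TTors T (P.cocomplex.X i))
    (hz : z ∈ TTors T (P.cocomplex.X i)) (hd : P.cocomplex.d i (i + 1) x = 0)
    (hd' : P.cocomplex.d i (i + 1) z = 0) (h : Bd T P (x - z)) : clsT T P x hx hd = clsT T P z hz hd' := by
  have hxz : x - z ∈ TTors T (P.cocomplex.X i) := sub_mem hx hz
  have hdd : P.cocomplex.d i (i + 1) (x - z) = 0 := by rw [map_sub, hd, hd', sub_zero]
  have h0 := (clsT_eq_zero_iff P (x - z) hxz hdd).2 h
  let k := mkI T (hx.choose ⊓ hz.choose) (Ok.inf hx.choose_spec.1 hz.choose_spec.1)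
  have k1 : ∀ a ∈ k.obj, a • x = 0 := fun a ha => hx.choose_spec.2 a ha.1
  have k2 : ∀ a ∈ k.obj, a • z = 0 := fun a ha => hz.choose_spec.2 a ha.2
  have k3 : ∀ a ∈ k.obj, a • (x - z) = 0 := fun a ha => by rw [smul_sub, k1 a ha, k2 a ha, sub_zero]
  unfold clsT at h0 ⊢
  rw [cls_eq P (j' := k) _ _ k3] at h0
  rw [cls_eq P (j' := k) _ _ k1, cls_eq P (j' := k) _ _ k2, ← sub_eq_zero, ← h0]
  unfold cls
  rw [← map_sub]
  refine congrArg _ ?_
  rw [sub_eq_iff_eq_add, InjectiveResolution.add_extMk]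
  refine LocCohLib.extMk_congr i P (evT_ext T ?_) _ _
  exact (evT_one T k x k1).trans ((sub_add_cancel x z).symm.trans
    (congrArg₂ (· + ·) (evT_one T k (x - z) k3).symm (evT_one T k z k2).symm))

/-- Local classes vanish exactly on boundaries of torsion elements. -/
theorem classOf_eq_zero_iff {R : Type u} [CommRing R] (I : Ideal R) {i : ℕ} {Y : ModuleCat.{u} R}
    (P : InjectiveResolution Y) {n : ℕ} (x : P.cocomplex.X i) (h : ∀ a ∈ I ^ n, a • x = 0)
    (hd : (P.cocomplex.d i (i + 1)).hom x = 0) :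
    LocCohLib.classOf x h hd = 0 ↔
      ∃ (m : ℕ) (y : P.cocomplex.X (i - 1)), (∀ a ∈ I ^ m, a • y = 0) ∧ P.cocomplex.d (i - 1) i y = x := by
  constructor
  · intro h0
    obtain ⟨m, hm, hm0⟩ := (LocCohLib.ι_eq_zero_iff I i Y _).1 h0
    rw [P.mk₀_comp_extMk] at hm0
    cases i with
    | zero =>
      have h1 := (ExtDerived.extMk_zero_iff _ P _ _).1 hm0
      refine ⟨0, 0, fun a _ => smul_zero a, (map_zero _).trans ?_⟩
      exact ((one_smul R _).symm.trans (LinearMap.congr_fun (congrArg ModuleCat.Hom.hom h1)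
        (Submodule.Quotient.mk (1 : R)))).symm
    | succ p =>
      obtain ⟨g, hg⟩ := (P.extMk_eq_zero_iff _ _ _ _ p rfl).1 hm0
      refine ⟨m, g.hom (Submodule.Quotient.mk (1 : R)), fun a ha => ?_,
        ((LinearMap.congr_fun (congrArg ModuleCat.Hom.hom hg) (Submodule.Quotient.mk (1 : R))).trans (one_smul R _))⟩
      rw [← map_smul, ← Submodule.Quotient.mk_smul, (Submodule.Quotient.mk_eq_zero _).2, map_zero]
      rwa [smul_eq_mul, mul_one]
  · rintro ⟨m, y, hy, hdy⟩
    have hk : ∀ a ∈ I ^ m, a • x = 0 := fun a ha => by rw [← hdy, ← map_smul, hy a ha, map_zero]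
    refine (LocCohLib.classOf_eq rfl h hk hd hd).trans ?_
    unfold LocCohLib.classOf
    have h0 : P.extMk (LocCohLib.classHom x hk) (i + 1) rfl (LocCohLib.classHom_d hk hd) = 0 := by
      cases i with
      | zero =>
        rw [ExtDerived.extMk_zero_iff]
        ext
        change (1 : R) • x = 0
        rw [one_smul, ← hdy, P.cocomplex.shape _ _ (by simp)]
        rfl
      | succ p =>
        refine (P.extMk_eq_zero_iff _ _ _ _ p rfl).2
          ⟨ModuleCat.ofHom ((I ^ m).liftQ (LinearMap.toSpanSingleton R _ y) fun a ha => hy a ha), ?_⟩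
        ext
        change (P.cocomplex.d p (p + 1)).hom ((1 : R) • y) = (1 : R) • x
        rw [one_smul, one_smul]
        exact hdy
    rw [h0, map_zero]

end Groth.Agent.HTLoc27
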