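import Groth.Agent.Lib.HTLoc27.Class
import Groth.Agent.Lib.Dlz27.LocTors
import Mathlib.CategoryTheory.Abelian.Injective.Resolution
import Mathlib.Order.KrullDimension

/-!
# Localizing classes of torsion cycles at the minimal primes of the support set
-/

set_option autoImplicit false
universe u

open CategoryTheory CategoryTheory.Limits Opposite

noncomputable section

namespace Groth.Agent.HTLoc27

open HTFin27 InjHullLib Dlz27

variable {A : Type u} [CommRing A] [IsNoetherianRing A]

section Res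

variable (S : Submonoid A)

/-- The two models of localization. -/
def eL (M : ModuleCat.{u} A) : ModuleCat.of (Localization S) (LocalizedModule S M) ≅ M.localizedModule S :=
  (Shrink.linearEquiv (Localization S) (LocalizedModule S M)).symm.toModuleIso

omit [IsNoetherianRing A] in
theorem eL_natural {M N : ModuleCat.{u} A} (f : M ⟶ N) :
    ModuleCat.ofHom (LocalizedModule.map S f.hom) ≫ (eL S N).hom = (eL S M).hom ≫ (locF S).map f := by
  refine ModuleCat.hom_ext (LinearMap.ext fun y => ?_)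
  induction y using LocalizedModule.induction_on with
  | h x s =>
    have hm : LocalizedModule.mk x s = Localization.mk (1 : A) s • LocalizedModule.mk x (1 : S) := by
      rw [LocalizedModule.mk_smul_mk, one_smul, mul_one]
    show (eL S N).hom (LocalizedModule.map S f.hom (LocalizedModule.mk x s)) =
      (locF S).map f ((eL S M).hom (LocalizedModule.mk x s))
    rw [hm, map_smul, map_smul, map_smul]
    refine Eq.trans ?_ (map_smul ((locF S).map f).hom _ _).symm
    refine congrArg (Localization.mk (1 : A) s • ·) ?_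
    exact (congrArg (eL S N).hom (LocalizedModule.map_mk S f.hom x 1)).trans (locF_map_mk S f x).symm

/-- The localized resolution. -/
def locRes {M : ModuleCat.{u} A} (P : InjectiveResolution M) :
    InjectiveResolution (ModuleCat.of (Localization S) (LocalizedModule S M)) where
  cocomplex := ((locF S).mapHomologicalComplex (ComplexShape.up ℕ)).obj P.cocomplex
  injective n := injective_locF S (P.injective n)
  ι := (CochainComplex.single₀ _).map (eL S M).hom ≫
    ((HomologicalComplex.singleMapHomologicalComplex (locF S) (ComplexShape.up ℕ) 0).app M).inv ≫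
      ((locF S).mapHomologicalComplex (ComplexShape.up ℕ)).map P.ι

/-- The localized map of resolutions. -/
def locHom {M N : ModuleCat.{u} A} {f : M ⟶ N} {P : InjectiveResolution M} {Q : InjectiveResolution N}
    (φ : InjectiveResolution.Hom P Q f) :
    InjectiveResolution.Hom (locRes S P) (locRes S Q) (ModuleCat.ofHom (LocalizedModule.map S f.hom)) where
  hom := ((locF S).mapHomologicalComplex (ComplexShape.up ℕ)).map φ.hom
  ι_f_zero_comp_hom_f_zero := by
    simp only [locRes, HomologicalComplex.comp_f, Functor.mapHomologicalComplex_map_f, Category.assoc,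
      CochainComplex.single₀_map_f_zero, Iso.app_inv, HomologicalComplex.singleMapHomologicalComplex_inv_app_self]
    have h1 : ∀ {Z : ModuleCat.{u} (Localization S)} (g : (locF S).obj N ⟶ Z),
        ModuleCat.ofHom (LocalizedModule.map S f.hom) ≫ (eL S N).hom ≫ g = (eL S M).hom ≫ (locF S).map f ≫ g :=
      fun g => (Category.assoc _ _ _).symm.trans ((congrArg (· ≫ g) (eL_natural S f)).trans (Category.assoc _ _ _))
    erw [h1]
    simp [HomologicalComplex.singleObjXSelf, HomologicalComplex.singleObjXIsoOfEq, eqToHom_map]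
    have h2 : P.ι.f 0 ≫ φ.hom.f 0 = f ≫ Q.ι.f 0 := by
      rw [φ.ι_f_zero_comp_hom_f_zero, CochainComplex.single₀_map_f_zero]; rfl
    show (locF S).map (𝟙 M) ≫ (locF S).map (P.ι.f 0) ≫ (locF S).map (φ.hom.f 0) =
      (locF S).map f ≫ (locF S).map (𝟙 N) ≫ (locF S).map (Q.ι.f 0)
    refine (congrArg (· ≫ _) ((locF S).map_id M)).trans ((Category.id_comp _).trans ?_)
    refine ((locF S).map_comp _ _).symm.trans ((congrArg (locF S).map h2).trans (((locF S).map_comp _ _).trans ?_))
    exact congrArg ((locF S).map f ≫ ·) ((congrArg (· ≫ _) ((locF S).map_id N)).trans (Category.id_comp _)).symm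

omit [IsNoetherianRing A] in
theorem map_mkL {M N : ModuleCat.{u} A} (f : M ⟶ N) (x : M) :
    (locF S).map f (mkL S M x) = mkL S N (f x) := locF_map_mk S f x

end Res

/-- A lift to resolutions. -/
def homOf {M N : ModuleCat.{u} A} (P : InjectiveResolution M) (Q : InjectiveResolution N) (f : M ⟶ N) :
    InjectiveResolution.Hom P Q f where
  hom := InjectiveResolution.desc f Q P
  ι_f_zero_comp_hom_f_zero := by
    have h := InjectiveResolution.desc_commutes f Q P
    exact congr($(h).f 0)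

omit [IsNoetherianRing A] in
theorem map_classOf {R : Type u} [CommRing R] (I : Ideal R) {i : ℕ} {Y Y' : ModuleCat.{u} R}
    {P : InjectiveResolution Y} {P' : InjectiveResolution Y'} {f : Y ⟶ Y'} (φ : InjectiveResolution.Hom P P' f)
    {n : ℕ} (x : P.cocomplex.X i) (h : ∀ a ∈ I ^ n, a • x = 0) (hd : (P.cocomplex.d i (i + 1)).hom x = 0)
    (h' : ∀ a ∈ I ^ n, a • (φ.hom.f i).hom x = 0) (hd' : (P'.cocomplex.d i (i + 1)).hom ((φ.hom.f i).hom x) = 0) :
    ((localCohomology I i).map f).hom (LocCohLib.classOf x h hd) = LocCohLib.classOf ((φ.hom.f i).hom x) h' hd' := by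
  unfold LocCohLib.classOf
  rw [LocCohLib.map_ι, InjectiveResolution.extMk_comp_mk₀ _ _ _ _ φ]
  refine congrArg _ (LocCohLib.extMk_congr i P' ?_ _ _)
  ext
  change (φ.hom.f i).hom ((1 : R) • x) = (1 : R) • (φ.hom.f i).hom x
  rw [map_smul]

omit [IsNoetherianRing A] in
theorem d_comm {M N : ModuleCat.{u} A} {f : M ⟶ N} {P : InjectiveResolution M} {Q : InjectiveResolution N}
    (φ : InjectiveResolution.Hom P Q f) (i j : ℕ) (x : P.cocomplex.X i) :
    Q.cocomplex.d i j (φ.hom.f i x) = φ.hom.f j (P.cocomplex.d i j x) :=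
  LinearMap.congr_fun (congrArg ModuleCat.Hom.hom (φ.hom.comm i j)) x

section Loc

variable (q : Ideal A) [q.IsPrime] {M : ModuleCat.{u} A} (P : InjectiveResolution M) {i : ℕ}

/-- The local class at a prime. -/
def locCl (x : P.cocomplex.X i)
    (h : mkL q.primeCompl (P.cocomplex.X i) x ∈ powTors (mQ q) ((P.cocomplex.X i).localizedModule q.primeCompl))
    (hd : mkL q.primeCompl (P.cocomplex.X (i + 1)) (P.cocomplex.d i (i + 1) x) = 0) :
    (localCohomology (mQ q) i).obj (ModuleCat.of (Localization q.primeCompl) (LocalizedModule q.primeCompl M)) :=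
  LocCohLib.classOf (P := locRes q.primeCompl P) (mkL q.primeCompl (P.cocomplex.X i) x)
    (mem_powTors_iff.1 h).choose_spec ((map_mkL _ _ _).trans hd)

theorem locCl_eq_zero_iff (x : P.cocomplex.X i)
    (h : mkL q.primeCompl (P.cocomplex.X i) x ∈ powTors (mQ q) ((P.cocomplex.X i).localizedModule q.primeCompl))
    (hd : mkL q.primeCompl (P.cocomplex.X (i + 1)) (P.cocomplex.d i (i + 1) x) = 0) :
    locCl q P x h hd = 0 ↔ ∃ c : P.cocomplex.X (i - 1),
      mkL q.primeCompl (P.cocomplex.X (i - 1)) c ∈ powTors (mQ q) ((P.cocomplex.X (i - 1)).localizedModule q.primeCompl) ∧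
      mkL q.primeCompl (P.cocomplex.X i) (P.cocomplex.d (i - 1) i c) = mkL q.primeCompl (P.cocomplex.X i) x := by
  unfold locCl
  rw [classOf_eq_zero_iff]
  constructor
  · rintro ⟨m, y, hy, hdy⟩
    obtain ⟨c, hc, hcy⟩ := lift_powTors q (P.cocomplex.X (i - 1))
      ((Module.injective_iff_injective_object A _).2 (P.injective _)) (y := y) (mem_powTors_iff.2 ⟨m, hy⟩)
    refine ⟨c, hcy ▸ mem_powTors_iff.2 ⟨m, hy⟩, ?_⟩
    rw [← map_mkL, hcy]
    exact hdy
  · rintro ⟨c, hc, hdc⟩
    obtain ⟨m, hm⟩ := mem_powTors_iff.1 hc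
    exact ⟨m, mkL q.primeCompl (P.cocomplex.X (i - 1)) c, hm, (map_mkL _ _ c).trans hdc⟩

theorem locCl_lift (x : P.cocomplex.X i)
    (h : mkL q.primeCompl (P.cocomplex.X i) x ∈ powTors (mQ q) ((P.cocomplex.X i).localizedModule q.primeCompl))
    (hd : mkL q.primeCompl (P.cocomplex.X (i + 1)) (P.cocomplex.d i (i + 1) x) = 0) (h0 : locCl q P x h hd = 0) :
    ∃ c ∈ powTors q (P.cocomplex.X (i - 1)),
      mkL q.primeCompl (P.cocomplex.X i) (P.cocomplex.d (i - 1) i c) = mkL q.primeCompl (P.cocomplex.X i) x := by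
  obtain ⟨c, hc, hdc⟩ := (locCl_eq_zero_iff q P x h hd).1 h0
  obtain ⟨c', hc', he⟩ := lift_powTors q (P.cocomplex.X (i - 1))
    ((Module.injective_iff_injective_object A _).2 (P.injective _)) hc
  refine ⟨c', hc', ?_⟩
  rw [← map_mkL, he, map_mkL]
  exact hdc

theorem map_locCl {N : ModuleCat.{u} A} {f : M ⟶ N} {Q : InjectiveResolution N} (φ : InjectiveResolution.Hom P Q f)
    (x : P.cocomplex.X i)
    (h : mkL q.primeCompl (P.cocomplex.X i) x ∈ powTors (mQ q) ((P.cocomplex.X i).localizedModule q.primeCompl))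
    (hd : mkL q.primeCompl (P.cocomplex.X (i + 1)) (P.cocomplex.d i (i + 1) x) = 0)
    (h' : mkL q.primeCompl (Q.cocomplex.X i) (φ.hom.f i x) ∈ powTors (mQ q) ((Q.cocomplex.X i).localizedModule q.primeCompl))
    (hd' : mkL q.primeCompl (Q.cocomplex.X (i + 1)) (Q.cocomplex.d i (i + 1) (φ.hom.f i x)) = 0) :
    (localCohomology (mQ q) i).map (ModuleCat.ofHom (LocalizedModule.map q.primeCompl f.hom)) (locCl q P x h hd) =
      locCl q Q (φ.hom.f i x) h' hd' := by
  have hk : ∀ a ∈ mQ q ^ (mem_powTors_iff.1 h).choose,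
      a • ((locHom q.primeCompl φ).hom.f i).hom (mkL q.primeCompl (P.cocomplex.X i) x) = 0 := fun a ha => by
    rw [← map_smul]
    exact (congrArg _ ((mem_powTors_iff.1 h).choose_spec a ha)).trans (map_zero _)
  have hd2 : ((locRes q.primeCompl Q).cocomplex.d i (i + 1)).hom
      (((locHom q.primeCompl φ).hom.f i).hom (mkL q.primeCompl (P.cocomplex.X i) x)) = 0 :=
    (congrArg _ (map_mkL q.primeCompl (φ.hom.f i) x)).trans ((map_mkL _ _ _).trans hd')
  exact (map_classOf (mQ q) (locHom q.primeCompl φ) _ _ _ hk hd2).trans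
    (LocCohLib.classOf_eq (map_mkL q.primeCompl (φ.hom.f i) x) _ _ _ _)

end Loc

variable {T : Set (PrimeSpectrum A)}

/-- A prime minimal in `T`. -/
def MinT (T : Set (PrimeSpectrum A)) (q : PrimeSpectrum A) : Prop := q ∈ T ∧ ∀ r ∈ T, r ≤ q → r = q

/-- The primes of `T` that are not minimal in it. -/
def Tup (T : Set (PrimeSpectrum A)) : Set (PrimeSpectrum A) := {q | q ∈ T ∧ ¬ MinT T q}

omit [IsNoetherianRing A] in
theorem Tup_subset : Tup T ⊆ T := fun _ h => h.1

omit [IsNoetherianRing A] in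
theorem stable_Tup (hT : StableUnderSpecialization T) : StableUnderSpecialization (Tup T) := by
  intro p r hpr hp
  have hle := (PrimeSpectrum.le_iff_specializes p r).2 hpr
  exact ⟨hT hpr hp.1, fun hmin => hp.2 (by rw [hmin.2 p hp.1 hle]; exact hmin)⟩

omit [IsNoetherianRing A] in
theorem le_of_mem_TTors (hT : StableUnderSpecialization T) {N : Type u} [AddCommGroup N] [Module A N] {x : N}
    (hx : x ∈ TTors T N) {r : PrimeSpectrum A} (hr : annEl (A := A) x ≤ r.asIdeal) : r ∈ T := by
  obtain ⟨J, hJ, hk⟩ := hx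
  exact hJ fun a ha => hr (hk a ha)

/-- Torsion elements are power torsion at the minimal primes. -/
theorem mkL_mem_of_minT (hT : StableUnderSpecialization T) {q : PrimeSpectrum A} (hq : MinT T q)
    {N : ModuleCat.{u} A} {x : N} (hx : x ∈ TTors T N) :
    mkL q.asIdeal.primeCompl N x ∈ powTors (mQ q.asIdeal) (N.localizedModule q.asIdeal.primeCompl) := by
  by_cases hle : annEl (A := A) x ≤ q.asIdeal
  · refine mkL_mem_powTors_of_minimal q.asIdeal N ⟨⟨inferInstance, hle⟩, fun p ⟨hp, hxp⟩ hpq => ?_⟩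
    exact (congrArg PrimeSpectrum.asIdeal (hq.2 ⟨p, hp⟩ (le_of_mem_TTors hT hx (r := ⟨p, hp⟩) hxp) hpq)).ge
  · obtain ⟨s, hs, hsq⟩ := SetLike.not_le_iff_exists.1 hle
    rw [(mkL_eq_zero_iff _ N).2 ⟨⟨s, hsq⟩, hs⟩]
    exact zero_mem _

/-- A torsion element that is a boundary at every minimal prime is, up to a boundary, supported off them. -/
theorem clear (hT : StableUnderSpecialization T) {N' N : ModuleCat.{u} A} (d : N' ⟶ N) (b : N)
    (hb : b ∈ TTors T N)
    (h : ∀ q : PrimeSpectrum A, MinT T q → ∃ c ∈ powTors q.asIdeal N',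
      mkL q.asIdeal.primeCompl N (d c) = mkL q.asIdeal.primeCompl N b) :
    ∃ c ∈ TTors T N', b - d c ∈ TTors (Tup T) N := by
  classical
  let Q : Set (PrimeSpectrum A) := {q | MinT T q ∧ annEl (A := A) b ≤ q.asIdeal}
  have hQ : Q.Finite := by
    refine ((Ideal.finite_minimalPrimes_of_isNoetherianRing A (annEl b)).preimage
      (f := PrimeSpectrum.asIdeal) (fun _ _ _ _ h => PrimeSpectrum.ext h)).subset fun q hq => ?_
    exact ⟨⟨q.2, hq.2⟩, fun p ⟨hp, hxp⟩ hpq =>
      (congrArg PrimeSpectrum.asIdeal (hq.1.2 ⟨p, hp⟩ (le_of_mem_TTors hT hb (r := ⟨p, hp⟩) hxp) hpq)).ge⟩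
  choose c hc hdc using h
  let cc : PrimeSpectrum A → N' := fun q => if hq : MinT T q then c q hq else 0
  have hcc : ∀ q ∈ hQ.toFinset, cc q ∈ powTors q.asIdeal N' := fun q hq => by
    have hm := (hQ.mem_toFinset.1 hq).1
    simp only [cc, dif_pos hm]
    exact hc q hm
  let C := ∑ q ∈ hQ.toFinset, cc q
  have hC : C ∈ TTors T N' := Submodule.sum_mem _ fun q hq =>
    powTors_le_TTors hT (hQ.mem_toFinset.1 hq).1.1 N' (hcc q hq)
  refine ⟨C, hC, ?_⟩
  have hz : b - d C ∈ TTors T N := sub_mem hb (TTors.map T hC d.hom)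
  refine ⟨annEl (A := A) (b - d C), fun r hr => ?_, fun a ha => ha⟩
  refine ⟨le_of_mem_TTors hT hz hr, fun hmin => ?_⟩
  have hzero : mkL r.asIdeal.primeCompl N (b - d C) = 0 := by
    have hoth : ∀ q ∈ hQ.toFinset, q ≠ r → mkL r.asIdeal.primeCompl N (d (cc q)) = 0 := fun q hq hne => by
      refine mkL_eq_zero_of_not_le r.asIdeal N (p := q.asIdeal) (fun hle => hne ?_) (map_powTors d.hom (hcc q hq))
      exact hmin.2 q (hQ.mem_toFinset.1 hq).1.1 hle
    have hsum : mkL r.asIdeal.primeCompl N (d C) = ∑ q ∈ hQ.toFinset, mkL r.asIdeal.primeCompl N (d (cc q)) := by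
      simp only [C, map_sum]
    rw [map_sub, hsum]
    by_cases hbr : annEl (A := A) b ≤ r.asIdeal
    · have hr' : r ∈ hQ.toFinset := hQ.mem_toFinset.2 ⟨hmin, hbr⟩
      rw [Finset.sum_eq_single_of_mem r hr' hoth, sub_eq_zero]
      simp only [cc, dif_pos hmin]
      exact (hdc r hmin).symm
    · obtain ⟨s, hs, hsq⟩ := SetLike.not_le_iff_exists.1 hbr
      rw [(mkL_eq_zero_iff _ N).2 ⟨⟨s, hsq⟩, hs⟩, Finset.sum_eq_zero fun q hq => hoth q hq fun e =>
        hbr (e ▸ (hQ.mem_toFinset.1 hq).2), sub_zero]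
  obtain ⟨s, hs⟩ := (mkL_eq_zero_iff _ N).1 hzero
  exact s.2 (hr hs)

omit [IsNoetherianRing A] in
theorem TTors_eq_zero_of_empty {T : Set (PrimeSpectrum A)} (hT : T = ∅) {N : Type u} [AddCommGroup N] [Module A N]
    {x : N} (hx : x ∈ TTors T N) : x = 0 := by
  obtain ⟨J, hJ, hk⟩ := hx
  subst hT
  rw [Ok, Set.subset_empty_iff, PrimeSpectrum.zeroLocus_empty_iff_eq_top] at hJ
  simpa using hk 1 (hJ ▸ Submodule.mem_top)

omit [IsNoetherianRing A] in
theorem Tup_eq_empty (h : ∀ l : LTSeries ↥T, l.length ≤ 0) : Tup T = ∅ := by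
  refine Set.eq_empty_iff_forall_notMem.2 fun q hq => hq.2 ⟨hq.1, fun r hr hle => ?_⟩
  by_contra hne
  have := h ((RelSeries.singleton _ (⟨q, hq.1⟩ : ↥T)).cons ⟨r, hr⟩ (lt_of_le_of_ne hle hne))
  simp at this

omit [IsNoetherianRing A] in
theorem length_Tup {e : ℕ} (h : ∀ l : LTSeries ↥T, l.length ≤ e + 1) (l : LTSeries ↥(Tup T)) : l.length ≤ e := by
  obtain ⟨r, hr, hle, hne⟩ : ∃ r ∈ T, r ≤ l.head.1 ∧ r ≠ l.head.1 := by
    by_contra hc
    push Not at hc
    exact l.head.2.2 ⟨l.head.2.1, fun r hr hle => hc r hr hle⟩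
  have := h ((l.map (fun x : ↥(Tup T) => (⟨x.1, x.2.1⟩ : ↥T)) (fun a b hab => hab)).cons ⟨r, hr⟩
    (lt_of_le_of_ne hle hne))
  simp at this
  omega

end Groth.Agent.HTLoc27
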